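import Groth.Agent.H4KoszExt.Top

/-!
# `Ext` of the quotient by a weakly regular sequence in all degrees, for a killed module
-/

set_option autoImplicit false
set_option linter.style.haveILetI false
universe u

open CategoryTheory CategoryTheory.Limits Abelian RingTheory.Sequence

namespace Groth.Agent.H4KoszExt

variable {A : Type u} [CommRing A]

/-- The map `1 ↦ m` out of `A / (xs)`. -/
noncomputable def qhat (xs : List A) {M : Type u} [AddCommGroup M] [Module A M]
    (hM : ∀ a ∈ Ideal.ofList xs, ∀ m : M, a • m = 0) (m : M) : Q xs ⟶ ModuleCat.of A M :=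
  ModuleCat.ofHom ((Ideal.ofList xs).liftQ (LinearMap.toSpanSingleton A M m) fun a ha => hM a ha m)

theorem qhat_one (xs : List A) {M : Type u} [AddCommGroup M] [Module A M]
    (hM : ∀ a ∈ Ideal.ofList xs, ∀ m : M, a • m = 0) (m : M) :
    (qhat xs hM m).hom (Submodule.Quotient.mk 1) = m := one_smul A m

theorem qhat_ext {xs : List A} {M : ModuleCat.{u} A} {f f' : Q xs ⟶ M}
    (h : f.hom (Submodule.Quotient.mk 1) = f'.hom (Submodule.Quotient.mk 1)) : f = f' := by
  refine ModuleCat.hom_ext (LinearMap.ext fun q => ?_)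
  obtain ⟨a, rfl⟩ := Submodule.Quotient.mk_surjective _ q
  have ha : (Submodule.Quotient.mk a : A ⧸ Ideal.ofList xs) = a • Submodule.Quotient.mk 1 := by
    rw [← Submodule.Quotient.mk_smul, smul_eq_mul, mul_one]
  rw [ha, map_smul, map_smul, h]

/-- The map attached to a finite family of classes. -/
noncomputable def psi {xs : List A} {X : ModuleCat.{u} A} {i n : ℕ} (e : Fin n → Ext X (Q xs) i)
    {M : Type u} [AddCommGroup M] [Module A M] (hM : ∀ a ∈ Ideal.ofList xs, ∀ m : M, a • m = 0) :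
    (Fin n → M) →ₗ[A] Ext X (ModuleCat.of A M) i where
  toFun m := ∑ k, (e k).comp (Ext.mk₀ (qhat xs hM (m k))) (add_zero i)
  map_add' a b := by
    rw [← Finset.sum_add_distrib]
    refine Finset.sum_congr rfl fun k _ => ?_
    rw [show qhat xs hM ((a + b) k) = qhat xs hM (a k) + qhat xs hM (b k) from qhat_ext (by
      rw [ModuleCat.hom_add, LinearMap.add_apply, qhat_one, qhat_one, qhat_one, Pi.add_apply]),
      Ext.mk₀_add, Ext.comp_add]
  map_smul' r a := by
    rw [Finset.smul_sum]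
    refine Finset.sum_congr rfl fun k _ => ?_
    rw [show qhat xs hM ((r • a) k) = r • qhat xs hM (a k) from qhat_ext (by
      rw [ModuleCat.hom_smul, LinearMap.smul_apply, qhat_one, qhat_one, Pi.smul_apply]),
      Ext.mk₀_smul, Ext.comp_smul]
    rfl

theorem psi_apply {xs : List A} {X : ModuleCat.{u} A} {i n : ℕ} (e : Fin n → Ext X (Q xs) i)
    {M : Type u} [AddCommGroup M] [Module A M] (hM : ∀ a ∈ Ideal.ofList xs, ∀ m : M, a • m = 0)
    (m : Fin n → M) : psi e hM m = ∑ k, (e k).comp (Ext.mk₀ (qhat xs hM (m k))) (add_zero i) := rfl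

theorem psi_append {xs : List A} {X : ModuleCat.{u} A} {i a b : ℕ} (e : Fin a → Ext X (Q xs) i)
    (e' : Fin b → Ext X (Q xs) i) {M : Type u} [AddCommGroup M] [Module A M]
    (hM : ∀ a ∈ Ideal.ofList xs, ∀ m : M, a • m = 0) (m : Fin (a + b) → M) :
    psi (Fin.append e e') hM m =
      psi e hM (fun k => m (Fin.castAdd _ k)) + psi e' hM (fun k => m (Fin.natAdd _ k)) := by
  simp only [psi_apply, Fin.sum_univ_add, Fin.append_left, Fin.append_right]

theorem comp_psi {xs : List A} {X X' : ModuleCat.{u} A} {i j k n : ℕ} (z : Ext X' X j)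
    (e : Fin n → Ext X (Q xs) i) (h : j + i = k) {M : Type u} [AddCommGroup M] [Module A M]
    (hM : ∀ a ∈ Ideal.ofList xs, ∀ m : M, a • m = 0) (m : Fin n → M) :
    z.comp (psi e hM m) h = psi (fun l => z.comp (e l) h) hM m := by
  rw [psi_apply, psi_apply, Ext.comp_sum]
  exact Finset.sum_congr rfl fun l _ => (Ext.comp_assoc_of_third_deg_zero _ _ _ _).symm

theorem psi_push {xs ys : List A} {X : ModuleCat.{u} A} {i n : ℕ} (g : Q xs ⟶ Q ys)
    (hg : g.hom (Submodule.Quotient.mk 1) = Submodule.Quotient.mk 1) (e : Fin n → Ext X (Q xs) i)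
    {M : Type u} [AddCommGroup M] [Module A M] (hM : ∀ a ∈ Ideal.ofList ys, ∀ m : M, a • m = 0)
    (hM0 : ∀ a ∈ Ideal.ofList xs, ∀ m : M, a • m = 0) (m : Fin n → M) :
    psi (fun k => (e k).comp (Ext.mk₀ g) (add_zero i)) hM m = psi e hM0 m := by
  rw [psi_apply, psi_apply]
  refine Finset.sum_congr rfl fun k _ => ?_
  rw [Ext.comp_assoc_of_second_deg_zero, Ext.mk₀_comp_mk₀]
  congr 2
  exact qhat_ext (by rw [ModuleCat.comp_apply, hg, qhat_one, qhat_one])

theorem smul_ext_eq_zero {X Y : ModuleCat.{u} A} {i : ℕ} (x : A) (h : ∀ m : Y, x • m = 0) (z : Ext X Y i) :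
    x • z = 0 := by
  have h0 : x • 𝟙 Y = 0 := ModuleCat.hom_ext (LinearMap.ext fun m => h m)
  rw [← Ext.comp_mk₀_id z, ← Ext.comp_smul, ← Ext.mk₀_smul, h0, Ext.mk₀_zero, Ext.comp_zero]

theorem all_zero (ys : List A) : ∃ e : Fin (ys.length.choose 0) → Ext (Q ys) (Q ys) 0,
    ∀ (M : Type u) [AddCommGroup M] [Module A M] (hM : ∀ a ∈ Ideal.ofList ys, ∀ m : M, a • m = 0),
      Function.Bijective (psi e hM) := by
  rw [Nat.choose_zero_right]
  refine ⟨fun _ => Ext.mk₀ (𝟙 _), fun M _ _ hM => ?_⟩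
  have h : ∀ m : Fin 1 → M, psi (fun _ => Ext.mk₀ (𝟙 (Q ys))) hM m = Ext.mk₀ (qhat ys hM (m 0)) := fun m => by
    rw [psi_apply, Fin.sum_univ_one, Ext.mk₀_id_comp]
  refine ⟨fun a b hab => funext fun k => ?_, fun y => ?_⟩
  · rw [h, h] at hab
    have := congr($((Ext.addEquiv₀.symm).injective hab).hom (Submodule.Quotient.mk 1))
    rw [qhat_one, qhat_one] at this
    rw [Fin.fin_one_eq_zero k]
    exact this
  · obtain ⟨f, rfl⟩ := (Ext.addEquiv₀.symm).surjective y
    refine ⟨fun _ => f.hom (Submodule.Quotient.mk 1), (h _).trans ?_⟩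
    show Ext.mk₀ _ = Ext.mk₀ f
    congr 1
    exact qhat_ext (qhat_one _ _ _)

theorem all_succ (xs : List A) (x : A) (hx : IsSMulRegular (A ⧸ Ideal.ofList xs) x) {i a b : ℕ}
    (e0 : Fin a → Ext (Q xs) (Q xs) i)
    (he0 : ∀ (M : Type u) [AddCommGroup M] [Module A M] (hM : ∀ a ∈ Ideal.ofList xs, ∀ m : M, a • m = 0),
      Function.Bijective (psi e0 hM))
    (e1 : Fin b → Ext (Q xs) (Q xs) (i + 1))
    (he1 : ∀ (M : Type u) [AddCommGroup M] [Module A M] (hM : ∀ a ∈ Ideal.ofList xs, ∀ m : M, a • m = 0),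
      Function.Bijective (psi e1 hM)) :
    ∃ e : Fin (a + b) → Ext (Q (xs ++ [x])) (Q (xs ++ [x])) (i + 1),
      ∀ (M : Type u) [AddCommGroup M] [Module A M] (hM : ∀ a ∈ Ideal.ofList (xs ++ [x]), ∀ m : M, a • m = 0),
        Function.Bijective (psi e hM) := by
  obtain ⟨g, w, hS, hg⟩ := exists_ses xs x hx
  have hg1 : g.hom (Submodule.Quotient.mk 1) = Submodule.Quotient.mk 1 := hg 1
  have hle : Ideal.ofList xs ≤ Ideal.ofList (xs ++ [x]) := by rw [Ideal.ofList_append]; exact le_sup_left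
  have hxm : x ∈ Ideal.ofList (xs ++ [x]) := Ideal.subset_span (by simp)
  have hf : ∀ {Y : ModuleCat.{u} A} {n : ℕ} (z : Ext (Q xs) Y n), (∀ m : Y, x • m = 0) →
      (Ext.mk₀ (x • 𝟙 (Q xs))).comp z (zero_add _) = 0 := fun z hz => by
    rw [Ext.mk₀_smul, Ext.smul_comp, Ext.mk₀_id_comp]
    exact smul_ext_eq_zero x hz z
  have hQ' : ∀ m : Q (xs ++ [x]), x • m = 0 := fun m => by
    obtain ⟨a, rfl⟩ := Ideal.Quotient.mk_surjective m
    exact Ideal.Quotient.eq_zero_iff_mem.2 (Ideal.mul_mem_right _ _ hxm)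
  choose l hl using fun k => Ext.contravariant_sequence_exact₂ hS _ ((e1 k).comp (Ext.mk₀ g) (add_zero _))
    (hf _ hQ')
  refine ⟨Fin.append (fun k => hS.extClass.comp ((e0 k).comp (Ext.mk₀ g) (add_zero _)) (add_comm 1 i)) l,
    fun M _ _ hM => ?_⟩
  have hM0 : ∀ a ∈ Ideal.ofList xs, ∀ m : M, a • m = 0 := fun a ha => hM a (hle ha)
  have hsplit : ∀ m : Fin (a + b) → M,
      psi (Fin.append (fun k => hS.extClass.comp ((e0 k).comp (Ext.mk₀ g) (add_zero _)) (add_comm 1 i)) l) hM m =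
        hS.extClass.comp (psi e0 hM0 (fun k => m (Fin.castAdd _ k))) (add_comm 1 i) +
        psi l hM (fun k => m (Fin.natAdd _ k)) := fun m => by
    rw [psi_append, ← psi_push g hg1 e0 hM hM0, comp_psi]
  have hl' : ∀ m : Fin b → M, (Ext.mk₀ g).comp (psi l hM m) (zero_add _) = psi e1 hM0 m := fun m => by
    rw [← psi_push g hg1 e1 hM hM0, comp_psi]
    congr 2
    exact funext fun k => hl k
  have hgc : ∀ z : Ext (Q xs) (ModuleCat.of A M) i,
      (Ext.mk₀ g).comp (hS.extClass.comp z (add_comm 1 i)) (zero_add _) = 0 := fun z =>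
    hS.comp_extClass_assoc z _
  refine ⟨(injective_iff_map_eq_zero _).2 fun m hm => ?_, fun y => ?_⟩
  · rw [hsplit] at hm
    have := congrArg (fun t => (Ext.mk₀ g).comp t (zero_add _)) hm
    simp only [Ext.comp_add, hgc, zero_add, hl', Ext.comp_zero] at this
    have hm1 := (he1 M hM0).1 (this.trans (map_zero _).symm)
    rw [hm1, map_zero, add_zero] at hm
    obtain ⟨z, hz⟩ := Ext.contravariant_sequence_exact₁ hS _ _ _ hm
    rw [hf z (fun m => hM x hxm m)] at hz
    have hm0 := (he0 M hM0).1 (hz.symm.trans (map_zero _).symm)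
    exact funext (Fin.addCases (fun k => congrFun hm0 k) (fun k => congrFun hm1 k))
  · obtain ⟨m1, hm1⟩ := (he1 M hM0).2 ((Ext.mk₀ g).comp y (zero_add _))
    obtain ⟨z, hz⟩ := Ext.contravariant_sequence_exact₃ hS _ (y - psi l hM m1)
      (by rw [sub_eq_add_neg, Ext.comp_add, Ext.comp_neg, hl', hm1, add_neg_cancel]) (n₀ := i) (add_comm 1 i)
    obtain ⟨m0, rfl⟩ := (he0 M hM0).2 z
    refine ⟨Fin.append m0 m1, ?_⟩
    rw [hsplit]
    simp only [Fin.append_left, Fin.append_right]
    rw [hz, sub_add_cancel]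

/-- All degrees, for modules killed by the sequence. -/
theorem all (xs : List A) : IsWeaklyRegular A xs → ∀ i : ℕ,
    ∃ e : Fin (xs.length.choose i) → Ext (Q xs) (Q xs) i, ∀ (M : Type u) [AddCommGroup M] [Module A M]
      (hM : ∀ a ∈ Ideal.ofList xs, ∀ m : M, a • m = 0), Function.Bijective (psi e hM) := by
  induction xs using List.reverseRecOn with
  | nil =>
    intro _ i
    cases i with
    | zero => exact all_zero []
    | succ i =>
      rw [List.length_nil, Nat.choose_zero_succ]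
      refine ⟨Fin.elim0, fun M _ _ hM => ?_⟩
      haveI : Subsingleton (Ext (Q ([] : List A)) (ModuleCat.of A M) (i + 1)) :=
        Ext.subsingleton_of_projective _ _ _
      exact ⟨fun a b _ => Subsingleton.elim _ _, fun y => ⟨0, Subsingleton.elim _ _⟩⟩
  | append_singleton xs x ih =>
    intro h i
    cases i with
    | zero => exact all_zero _
    | succ i =>
      obtain ⟨h1, h2⟩ := isSMulRegular_last h
      obtain ⟨e0, he0⟩ := ih h1 i
      obtain ⟨e1, he1⟩ := ih h1 (i + 1)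
      rw [List.length_append, List.length_singleton, Nat.choose_succ_succ']
      exact all_succ xs x h2 e0 he0 e1 he1

end Groth.Agent.H4KoszExt
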