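import Mathlib

/-!
# `Ext` of the quotient by a weakly regular sequence
-/

set_option autoImplicit false
set_option linter.style.haveILetI false
universe u

open CategoryTheory CategoryTheory.Limits Abelian RingTheory.Sequence

namespace Groth.Agent.H4KoszExt

variable {A : Type u} [CommRing A]

/-- `A / (xs)`. -/
noncomputable abbrev Q (xs : List A) : ModuleCat.{u} A := ModuleCat.of A (A ⧸ Ideal.ofList xs)

/-- The map `1 ↦ m`. -/
noncomputable abbrev hat {M : Type u} [AddCommGroup M] [Module A M] (m : M) : ModuleCat.of A A ⟶ ModuleCat.of A M :=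
  ModuleCat.ofHom (LinearMap.toSpanSingleton A M m)

/-- The evaluation of a class at elements of a module. -/
noncomputable def phi {X : ModuleCat.{u} A} {p : ℕ} (e : Ext X (ModuleCat.of A A) p) (M : Type u) [AddCommGroup M]
    [Module A M] : M →ₗ[A] Ext X (ModuleCat.of A M) p where
  toFun m := e.comp (Ext.mk₀ (hat m)) (add_zero p)
  map_add' a b := by
    rw [show hat (a + b) = hat a + hat b from ModuleCat.hom_ext (LinearMap.ext_ring (by simp)), Ext.mk₀_add,
      Ext.comp_add]
  map_smul' r a := by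
    rw [show hat (r • a) = r • hat a from ModuleCat.hom_ext (LinearMap.ext_ring (by simp)), Ext.mk₀_smul,
      Ext.comp_smul]
    rfl

theorem phi_apply {X : ModuleCat.{u} A} {p : ℕ} (e : Ext X (ModuleCat.of A A) p) {M : Type u} [AddCommGroup M]
    [Module A M] (m : M) : phi e M m = e.comp (Ext.mk₀ (hat m)) (add_zero p) := rfl

/-- The short complex `A/(xs) → A/(xs) → A/(xs, x)`. -/
theorem exists_ses (xs : List A) (x : A) (h : IsSMulRegular (A ⧸ Ideal.ofList xs) x) :
    ∃ (g : Q xs ⟶ Q (xs ++ [x])) (w : (x • 𝟙 (Q xs)) ≫ g = 0),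
      (ShortComplex.mk (x • 𝟙 (Q xs)) g w).ShortExact ∧
      ∀ a : A, g.hom (Ideal.Quotient.mk _ a) = Ideal.Quotient.mk _ a := by
  have hle : Ideal.ofList xs ≤ Ideal.ofList (xs ++ [x]) := by rw [Ideal.ofList_append]; exact le_sup_left
  let g : Q xs ⟶ Q (xs ++ [x]) := ModuleCat.ofHom (Submodule.factor hle)
  have hx : x ∈ Ideal.ofList (xs ++ [x]) := Ideal.subset_span (by simp)
  have w : (x • 𝟙 (Q xs)) ≫ g = 0 := by
    refine ModuleCat.hom_ext (LinearMap.ext fun q => ?_)
    obtain ⟨a, rfl⟩ := Ideal.Quotient.mk_surjective q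
    show Submodule.factor hle (x • Ideal.Quotient.mk (Ideal.ofList xs) a) = 0
    rw [map_smul]
    show Ideal.Quotient.mk _ (x * a) = 0
    exact Ideal.Quotient.eq_zero_iff_mem.2 (Ideal.mul_mem_right _ _ hx)
  haveI : Mono (x • 𝟙 (Q xs)) := (ModuleCat.mono_iff_injective _).2 h
  haveI : Epi g := (ModuleCat.epi_iff_surjective _).2 (Submodule.factor_surjective hle)
  refine ⟨g, w, { exact := ModuleCat.shortComplex_exact _ fun q => ⟨fun hq => ?_, ?_⟩, mono_f := ‹_›, epi_g := ‹_› },
    fun a => rfl⟩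
  · obtain ⟨a, rfl⟩ := Ideal.Quotient.mk_surjective q
    have ha : a ∈ Ideal.ofList xs ⊔ Ideal.span {x} := by
      rw [← Ideal.ofList_singleton, ← Ideal.ofList_append]
      exact Ideal.Quotient.eq_zero_iff_mem.1 hq
    obtain ⟨b, hb, c, hc, rfl⟩ := Submodule.mem_sup.1 ha
    obtain ⟨d, rfl⟩ := Ideal.mem_span_singleton'.1 hc
    refine ⟨Ideal.Quotient.mk _ d, ?_⟩
    show x • Ideal.Quotient.mk (Ideal.ofList xs) d = _
    rw [map_add, Ideal.Quotient.eq_zero_iff_mem.2 hb, zero_add, mul_comm d x]
    rfl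
  · rintro ⟨q', rfl⟩
    exact congr($(w).hom q')

theorem isSMulRegular_last {xs : List A} {x : A} (h : IsWeaklyRegular A (xs ++ [x])) :
    IsWeaklyRegular A xs ∧ IsSMulRegular (A ⧸ Ideal.ofList xs) x := by
  rw [isWeaklyRegular_append_iff, isWeaklyRegular_singleton_iff] at h
  refine ⟨h.1, ?_⟩
  have := h.2
  rwa [smul_eq_mul, Ideal.mul_top] at this

instance projective_Q_nil : Projective (Q ([] : List A)) :=
  Projective.of_iso ((Submodule.quotEquivOfEqBot _ Ideal.ofList_nil).toModuleIso.symm :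
    ModuleCat.of A A ≅ Q ([] : List A))
    (ModuleCat.projective_of_free (Module.Free.chooseBasis A A))

/-- The top `Ext` of the quotient by a weakly regular sequence, and vanishing above. -/
theorem main (xs : List A) : IsWeaklyRegular A xs →
    (∀ (i : ℕ), xs.length < i → ∀ M : ModuleCat.{u} A, Subsingleton (Ext (Q xs) M i)) ∧
    ∃ e : Ext (Q xs) (ModuleCat.of A A) xs.length, ∀ (M : Type u) [AddCommGroup M] [Module A M],
      Function.Surjective (phi e M) ∧ LinearMap.ker (phi e M) = Ideal.ofList xs • (⊤ : Submodule A M) := by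
  induction xs using List.reverseRecOn with
  | nil =>
    intro _
    refine ⟨fun i hi M => ?_, Ext.mk₀ ((Submodule.quotEquivOfEqBot _ Ideal.ofList_nil).toModuleIso.hom), fun M _ _ => ?_⟩
    · obtain ⟨i, rfl⟩ := Nat.exists_eq_add_of_le' hi
      exact Ext.subsingleton_of_projective _ _ _
    · let t : Q ([] : List A) ≅ ModuleCat.of A A := (Submodule.quotEquivOfEqBot _ Ideal.ofList_nil).toModuleIso
      have hphi : ∀ m : M, phi (Ext.mk₀ t.hom) M m = Ext.mk₀ (t.hom ≫ hat m) := fun m => Ext.mk₀_comp_mk₀ _ _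
      refine ⟨fun y => ?_, ?_⟩
      · obtain ⟨f, rfl⟩ := (Ext.addEquiv₀.symm).surjective y
        refine ⟨(t.inv ≫ f).hom (1 : A), (hphi _).trans ?_⟩
        show Ext.mk₀ _ = Ext.mk₀ f
        congr 1
        rw [← Iso.eq_inv_comp]
        exact ModuleCat.hom_ext (LinearMap.ext_ring (by simp))
      · refine Eq.trans ?_ (by rw [Ideal.ofList_nil, Submodule.bot_smul] : (⊥ : Submodule A M) = Ideal.ofList [] • ⊤)
        refine LinearMap.ker_eq_bot.2 fun a b hab => ?_
        rw [hphi, hphi] at hab
        have := (cancel_epi t.hom).1 ((Ext.addEquiv₀.symm).injective hab)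
        simpa using LinearMap.congr_fun (congrArg ModuleCat.Hom.hom this) 1
  | append_singleton xs x ih =>
    intro h
    obtain ⟨h1, h2⟩ := isSMulRegular_last h
    obtain ⟨hvan, e', he'⟩ := ih h1
    obtain ⟨g, w, hS, hg⟩ := exists_ses xs x h2
    refine ⟨fun i hi M => ?_, (hS.extClass.comp e' (add_comm 1 xs.length |>.trans (by simp))), fun M _ _ => ?_⟩
    · refine subsingleton_of_forall_eq 0 fun y => ?_
      haveI := hvan i (by simp at hi; omega) M
      obtain ⟨j, rfl⟩ := Nat.exists_eq_add_of_le (show 1 ≤ i by simp at hi; omega)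
      obtain ⟨z, rfl⟩ := Ext.contravariant_sequence_exact₃ hS M y (Subsingleton.elim _ _) (n₀ := j) rfl
      haveI := hvan j (by simp at hi; omega) M
      rw [Subsingleton.elim z 0, Ext.comp_zero]
    · have hphi : ∀ m : M, phi (hS.extClass.comp e' (add_comm 1 xs.length |>.trans (by simp))) M m =
          hS.extClass.comp (phi e' M m) (by simp [add_comm] : 1 + xs.length = (xs ++ [x]).length) := fun m =>
        Ext.comp_assoc_of_third_deg_zero _ _ _ _
      refine ⟨fun y => ?_, ?_⟩
      · haveI := hvan (xs ++ [x]).length (by simp) (ModuleCat.of A M)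
        obtain ⟨z, hz⟩ := Ext.contravariant_sequence_exact₃ hS _ y (Subsingleton.elim _ _)
          (n₀ := xs.length) (by simp [add_comm])
        obtain ⟨m, rfl⟩ := (he' M).1 z
        exact ⟨m, (hphi m).trans hz⟩
      · have hx : ∀ z : Ext (Q xs) (ModuleCat.of A M) xs.length,
            (Ext.mk₀ (x • 𝟙 (Q xs))).comp z (zero_add _) = x • z := fun z => by
          rw [Ext.mk₀_smul, Ext.smul_comp, Ext.mk₀_id_comp]
        rw [Ideal.ofList_append, Submodule.sup_smul, Ideal.ofList_singleton]
        ext m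
        rw [LinearMap.mem_ker, hphi, ← (he' M).2, Submodule.mem_sup]
        refine ⟨fun hm => ?_, ?_⟩
        · obtain ⟨z, hz⟩ := Ext.contravariant_sequence_exact₁ hS _ _ _ hm
          obtain ⟨m', rfl⟩ := (he' M).1 z
          refine ⟨m - x • m', ?_, x • m', ?_, sub_add_cancel _ _⟩
          · rw [LinearMap.mem_ker, map_sub, map_smul, ← hz, hx, sub_self]
          · exact Submodule.smul_mem_smul (Ideal.mem_span_singleton_self x) trivial
        · rintro ⟨a, ha, b, hb, rfl⟩
          rw [Submodule.ideal_span_singleton_smul] at hb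
          obtain ⟨c, -, rfl⟩ := Submodule.mem_smul_pointwise_iff_exists _ _ _ |>.1 hb
          rw [map_add, LinearMap.mem_ker.1 ha, zero_add, map_smul, ← hx]
          exact hS.extClass_comp_assoc _

end Groth.Agent.H4KoszExt
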