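import Groth.Agent.H4KoszExt.Top
import Groth.Agent.H3CAlg.TorLES

/-!
# The top `Tor` of the quotient by a weakly regular sequence
-/

set_option autoImplicit false
set_option linter.style.haveILetI false
universe u

open CategoryTheory CategoryTheory.Limits MonoidalCategory RingTheory.Sequence

namespace Groth.Agent.H4KoszExt

variable {A : Type u} [CommRing A]

/-- `- ⊗ M`. -/
noncomputable abbrev tr (M : ModuleCat.{u} A) : ModuleCat.{u} A ⥤ ModuleCat.{u} A :=
  (tensoringRight (ModuleCat.{u} A)).obj M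

theorem leftDerived_map_smul (M : ModuleCat.{u} A) {X : ModuleCat.{u} A} (x : A) (n : ℕ) :
    ((tr M).leftDerived n).map (x • 𝟙 X) = x • 𝟙 _ := by
  obtain ⟨P⟩ : Nonempty (ProjectiveResolution X) := HasProjectiveResolution.out
  have h := P.isoLeftDerivedObj_hom_naturality (x • 𝟙 X) P (x • 𝟙 _) (by simp) (tr M) n
  rw [← cancel_mono (P.isoLeftDerivedObj (tr M) n).hom, h]
  have hsm : ((tr M).mapHomologicalComplex (ComplexShape.down ℕ)).map (x • 𝟙 P.complex) = x • 𝟙 _ := by
    ext i : 1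
    show (x • 𝟙 (P.complex.X i)) ▷ M = x • 𝟙 _
    rw [MonoidalLinear.smul_whiskerRight, id_whiskerRight]
    rfl
  show _ ≫ HomologicalComplex.homologyMap _ n = _
  have hh : ∀ C : ChainComplex (ModuleCat.{u} A) ℕ, HomologicalComplex.homologyMap (x • 𝟙 C) n = x • 𝟙 _ := fun C => by
    show ShortComplex.homologyMap _ = _
    rw [show (HomologicalComplex.shortComplexFunctor _ _ n).map (x • 𝟙 C) = x • 𝟙 (C.sc n) from rfl,
      ShortComplex.homologyMap_smul, ShortComplex.homologyMap_id]
    rfl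
  rw [hsm, hh, Linear.comp_smul, Category.comp_id, Linear.smul_comp, Category.id_comp]
  rfl

instance preservesFiniteColimits_tr (M : ModuleCat.{u} A) : PreservesFiniteColimits (tr M) :=
  haveI : PreservesFiniteColimits (tensorLeft M) := inferInstance
  preservesFiniteColimits_of_natIso (BraidedCategory.tensorLeftIsoTensorRight M)

theorem tor_main (M : Type u) [AddCommGroup M] [Module A M] (xs : List A) : IsWeaklyRegular A xs →
    (∀ i : ℕ, xs.length < i → IsZero (((tr (ModuleCat.of A M)).leftDerived i).obj (Q xs))) ∧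
    ∃ ι : ((tr (ModuleCat.of A M)).leftDerived xs.length).obj (Q xs) →ₗ[A] M, Function.Injective ι ∧
      ∀ m : M, (∃ t, ι t = m) ↔ ∀ a ∈ Ideal.ofList xs, a • m = 0 := by
  induction xs using List.reverseRecOn with
  | nil =>
    intro _
    refine ⟨fun i hi => ?_, ?_⟩
    · obtain ⟨i, rfl⟩ := Nat.exists_eq_add_of_le' hi
      exact Functor.isZero_leftDerived_obj_projective_succ _ _ _
    · let e : ((tr (ModuleCat.of A M)).leftDerived 0).obj (Q ([] : List A)) ≅ ModuleCat.of A M :=
        (tr (ModuleCat.of A M)).leftDerivedZeroIsoSelf.app _ ≪≫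
          whiskerRightIso (Submodule.quotEquivOfEqBot _ Ideal.ofList_nil).toModuleIso _ ≪≫ λ_ _
      refine ⟨e.toLinearEquiv.toLinearMap, e.toLinearEquiv.injective, fun m =>
        ⟨fun _ a ha => ?_, fun _ => ⟨_, e.toLinearEquiv.apply_symm_apply m⟩⟩⟩
      rw [Ideal.ofList_nil, Ideal.mem_bot] at ha
      rw [ha, zero_smul]
  | append_singleton xs x ih =>
    intro h
    obtain ⟨h1, h2⟩ := isSMulRegular_last h
    obtain ⟨hvan, ι, hι, hr⟩ := ih h1
    obtain ⟨g, w, hS, hg⟩ := exists_ses xs x h2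
    have hlen : (xs ++ [x]).length = xs.length + 1 := by simp
    refine ⟨fun i hi => ?_, ?_⟩
    · obtain ⟨j, rfl⟩ := Nat.exists_eq_add_of_le' (show 1 ≤ i by omega)
      obtain ⟨-, -, δ, w₁, w₂, e₁, e₂⟩ :=
        H3CAlg.leftDerived_les (tr (ModuleCat.of A M)) _ hS j
      exact e₁.isZero_X₂ ((hvan (j + 1) (by omega)).eq_of_src _ _) ((hvan j (by omega)).eq_of_tgt _ _)
    · obtain ⟨-, -, δ, w₁, w₂, e₁, e₂⟩ :=
        H3CAlg.leftDerived_les (tr (ModuleCat.of A M)) _ hS xs.length
      have hmono : Mono δ := e₁.mono_g ((hvan _ (Nat.lt_succ_self _)).eq_of_src _ _)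
      rw [hlen]
      refine ⟨ι ∘ₗ δ.hom, hι.comp ((ModuleCat.mono_iff_injective δ).1 hmono), fun m => ?_⟩
      have hsm : ∀ t, (((tr (ModuleCat.of A M)).leftDerived xs.length).map (x • 𝟙 (Q xs))).hom t = x • t :=
        fun t => by rw [leftDerived_map_smul]; rfl
      rw [Ideal.ofList_append, Ideal.ofList_singleton]
      refine ⟨?_, fun hm => ?_⟩
      · rintro ⟨t, rfl⟩ a ha
        obtain ⟨b, hb, c, hc, rfl⟩ := Submodule.mem_sup.1 ha
        obtain ⟨d, rfl⟩ := Ideal.mem_span_singleton'.1 hc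
        have h0 : x • δ.hom t = 0 := (hsm _).symm.trans congr($(w₂).hom t)
        rw [LinearMap.comp_apply, add_smul, (hr _).1 ⟨_, rfl⟩ b hb, mul_smul, ← map_smul ι x, h0, map_zero,
          smul_zero, add_zero]
      · obtain ⟨s, rfl⟩ := (hr m).2 fun a ha => hm a (Submodule.mem_sup_left ha)
        have hs : (((tr (ModuleCat.of A M)).leftDerived xs.length).map (x • 𝟙 (Q xs))).hom s = 0 :=
          hι (by rw [hsm, map_smul, map_zero]; exact hm x (Submodule.mem_sup_right (Ideal.mem_span_singleton_self x)))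
        obtain ⟨t, ht⟩ := (ShortComplex.moduleCat_exact_iff _).1 e₂ s hs
        exact ⟨t, congrArg ι ht⟩

theorem nonempty_tor (M : Type u) [AddCommGroup M] [Module A M] (xs : List A) (h : IsWeaklyRegular A xs) :
    Nonempty (((tr (ModuleCat.of A M)).leftDerived xs.length).obj (Q xs) ≃ₗ[A]
      ((A ⧸ Ideal.ofList xs) →ₗ[A] M)) := by
  obtain ⟨ι, hι, hr⟩ := (tor_main M xs h).2
  let F : ((tr (ModuleCat.of A M)).leftDerived xs.length).obj (Q xs) →ₗ[A]
      ((A ⧸ Ideal.ofList xs) →ₗ[A] M) :=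
    { toFun := fun t => (Ideal.ofList xs).liftQ (LinearMap.toSpanSingleton A M (ι t))
        fun a ha => (hr _).1 ⟨t, rfl⟩ a ha
      map_add' := fun a b => Submodule.linearMap_qext _ (LinearMap.ext fun c => by
        show c • ι (a + b) = c • ι a + c • ι b
        rw [map_add, smul_add])
      map_smul' := fun r a => Submodule.linearMap_qext _ (LinearMap.ext fun c => by
        show c • ι (r • a) = r • c • ι a
        rw [map_smul, smul_comm]) }
  have hF : ∀ t, F t (Submodule.Quotient.mk 1) = ι t := fun t => one_smul A _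
  refine ⟨LinearEquiv.ofBijective F ⟨fun a b hab => hι ?_, fun f => ?_⟩⟩
  · rw [← hF, hab, hF]
  · obtain ⟨t, ht⟩ := (hr (f (Submodule.Quotient.mk 1))).2 fun a ha => by
      rw [← map_smul, ← Submodule.Quotient.mk_smul, smul_eq_mul, mul_one,
        (Submodule.Quotient.mk_eq_zero _).2 ha, map_zero]
    exact ⟨t, Submodule.linearMap_qext _ (LinearMap.ext_ring ((hF t).trans ht))⟩

end Groth.Agent.H4KoszExt
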